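import Groth.Agent.FppfSrc.Smooth
import Groth.Agent.SmSrc.Smooth
/-!
Properties of morphisms of schemes descending along fppf coverings of the source.
-/

set_option backward.isDefEq.respectTransparency.types false

universe u

open CategoryTheory CategoryTheory.Limits AlgebraicGeometry Groth.Agent.EtDescent

namespace Groth.Agent.FppfSrc

/-- `Q` descends along faithfully flat finitely presented maps on the source. -/
def DescendsFppfSource (Q : ∀ {R S : Type u} [CommRing R] [CommRing S], (R →+* S) → Prop) : Prop :=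
  ∀ ⦃A B C : Type u⦄ [CommRing A] [CommRing B] [CommRing C] (f : A →+* B) (g : B →+* C),
    g.FinitePresentation → g.FaithfullyFlat → Q (g.comp f) → Q f

lemma descendsFppfSource_finiteType : DescendsFppfSource @RingHom.FiniteType := by
  intro A B C _ _ _ f g hg hff h
  algebraize [f, g, g.comp f]
  rw [← RingHom.algebraMap_toAlgebra f, RingHom.finiteType_algebraMap]
  exact finiteType_of_fppf A B C

lemma descendsFppfSource_finitePresentation : DescendsFppfSource @RingHom.FinitePresentation := by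
  intro A B C _ _ _ f g hg hff h
  algebraize [f, g, g.comp f]
  rw [← RingHom.algebraMap_toAlgebra f, RingHom.finitePresentation_algebraMap]
  exact finitePresentation_of_fppf A B C

lemma descendsFppfSource_smooth : DescendsFppfSource @RingHom.Smooth := by
  intro A B C _ _ _ f g hg hff h
  algebraize [f, g, g.comp f]
  rw [← RingHom.algebraMap_toAlgebra f, RingHom.smooth_algebraMap]
  exact smooth_of_fppf A B C

lemma descendsFppfSource_flat : DescendsFppfSource @RingHom.Flat := by
  intro A B C _ _ _ f g hg hff h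
  algebraize [f, g, g.comp f]
  rw [← RingHom.algebraMap_toAlgebra f, RingHom.flat_algebraMap_iff]
  exact flat_of_faithfullyFlat A B C

/-- An affine fppf cover of an affine scheme refining a given one. -/
lemma exists_affine_refinement_fppf {X Y : Scheme.{u}} [IsAffine Y] (g : X ⟶ Y) [Flat g]
    [LocallyOfFinitePresentation g] [Surjective g] :
    ∃ (W : Scheme.{u}) (w : W ⟶ X), IsAffine W ∧ Flat (w ≫ g) ∧ LocallyOfFinitePresentation (w ≫ g) ∧
      Surjective (w ≫ g) ∧ ∀ {Z : Scheme.{u}} (P : MorphismProperty Scheme.{u})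
        [IsZariskiLocalAtSource P] (h : X ⟶ Z), P h → P (w ≫ h) := by
  let 𝒰 := X.affineCover
  obtain ⟨t, ht⟩ := isCompact_univ.elim_finite_subcover (fun i => g '' Set.range (𝒰.f i))
    (fun i => g.isOpenMap _ (𝒰.f i).isOpenEmbedding.isOpen_range)
    (fun y _ => by
      obtain ⟨x, rfl⟩ := g.surjective y
      exact Set.mem_iUnion.2 ⟨𝒰.idx x, x, 𝒰.covers x, rfl⟩)
  let W : Scheme.{u} := ∐ fun i : t => 𝒰.X i
  let w : W ⟶ X := Sigma.desc fun i : t => 𝒰.f i
  have hloc : ∀ {Z : Scheme.{u}} (P : MorphismProperty Scheme.{u}) [IsZariskiLocalAtSource P]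
      (h : X ⟶ Z), P h → P (w ≫ h) := by
    intro Z P _ h hh
    rw [IsZariskiLocalAtSource.iff_of_openCover (P := P) (sigmaOpenCover fun i : t => 𝒰.X i)]
    intro i
    have e : (sigmaOpenCover fun i : t => 𝒰.X i).f i ≫ w = 𝒰.f (i : t).1 := Sigma.ι_desc _ _
    rw [← Category.assoc, e]
    exact @IsZariskiLocalAtSource.comp P _ _ _ h _ hh (𝒰.f (i : t).1) (𝒰.map_prop _)
  refine ⟨W, w, inferInstanceAs (IsAffine W), hloc @Flat g ‹_›,
    hloc @LocallyOfFinitePresentation g ‹_›, ⟨fun y => ?_⟩, fun P _ h hh => hloc P h hh⟩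
  obtain ⟨i, hi, _, ⟨v, rfl⟩, rfl⟩ := Set.mem_iUnion₂.1 (ht (Set.mem_univ y))
  refine ⟨Sigma.ι (fun i : t => 𝒰.X i) ⟨i, hi⟩ v, ?_⟩
  rw [← Scheme.Hom.comp_apply, ← Category.assoc]
  exact congrArg (fun k : 𝒰.X i ⟶ X => g (k v)) (Sigma.ι_desc (fun i : t => 𝒰.f i) ⟨i, hi⟩)

/-- A Zariski local property given by a ring map property descending along fppf maps descends along
fppf coverings of the source. -/
theorem of_precomp_fppf {P : MorphismProperty Scheme.{u}}
    {Q : ∀ {R S : Type u} [CommRing R] [CommRing S], (R →+* S) → Prop} [HasRingHomProperty P Q]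
    (hQ : DescendsFppfSource Q) {X Y Z : Scheme.{u}} (g : X ⟶ Y) (h : Y ⟶ Z) [Flat g]
    [LocallyOfFinitePresentation g] [Surjective g] (hgh : P (g ≫ h)) : P h := by
  have := HasRingHomProperty.HasAffineProperty P
  rw [HasRingHomProperty.iff_appLE (P := P)]
  intro U V e
  have : IsAffine (V : Scheme.{u}) := V.2
  have : IsAffine (U : Scheme.{u}) := U.2
  have : Flat (g ∣_ V.1) := IsZariskiLocalAtTarget.restrict (P := @Flat) ‹_› V.1
  have : LocallyOfFinitePresentation (g ∣_ V.1) :=
    IsZariskiLocalAtTarget.restrict (P := @LocallyOfFinitePresentation) ‹_› V.1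
  have : Surjective (g ∣_ V.1) := IsZariskiLocalAtTarget.restrict (P := @Surjective) ‹_› V.1
  obtain ⟨W, w, hW, hw1, hw1', hw2, hloc⟩ := exists_affine_refinement_fppf (g ∣_ V.1)
  have hP1 : P (g ∣_ V.1 ≫ h.resLE U.1 V.1 e) := by
    have e1 : g ∣_ V.1 ≫ h.resLE U.1 V.1 e = (g ≫ h).resLE U.1 (g ⁻¹ᵁ V.1)
        (fun x hx => e hx) := by
      apply (cancel_mono U.1.ι).1
      rw [Category.assoc, Scheme.Hom.resLE_comp_ι, morphismRestrict_ι_assoc,
        Scheme.Hom.resLE_comp_ι]
    rw [e1]
    exact IsZariskiLocalAtSource.resLE _ hgh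
  have hP2 : P (w ≫ g ∣_ V.1 ≫ h.resLE U.1 V.1 e) := hloc P _ hP1
  rw [← Category.assoc, HasRingHomProperty.iff_of_isAffine (P := P), Scheme.Hom.comp_appTop,
    CommRingCat.hom_comp] at hP2
  have hE : (w ≫ g ∣_ V.1).appTop.hom.FinitePresentation :=
    HasRingHomProperty.appTop (P := @LocallyOfFinitePresentation) _ hw1'
  have hF : (w ≫ g ∣_ V.1).appTop.hom.FaithfullyFlat := by
    refine RingHom.FaithfullyFlat.iff_flat_and_comap_surjective.2
      ⟨HasRingHomProperty.appTop (P := @Flat) _ hw1, ?_⟩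
    have : Surjective (Spec.map (w ≫ g ∣_ V.1).appTop) :=
      (MorphismProperty.arrow_mk_iso_iff @Surjective (arrowIsoSpecΓOfIsAffine _)).1 hw2
    exact (Spec.map (w ≫ g ∣_ V.1).appTop).surjective
  have h3 := hQ _ _ hE hF hP2
  have hri : RingHom.RespectsIso Q := (HasRingHomProperty.isLocal_ringHomProperty P).respectsIso
  exact (hri.arrow_mk_iso_iff (arrowResLEAppIso h U.1 V.1 e)).1 h3

lemma locallyOfFiniteType_of_precomp_fppf {X Y Z : Scheme.{u}} (g : X ⟶ Y) (h : Y ⟶ Z) [Flat g]
    [LocallyOfFinitePresentation g] [Surjective g] [LocallyOfFiniteType (g ≫ h)] :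
    LocallyOfFiniteType h :=
  of_precomp_fppf (P := @LocallyOfFiniteType) descendsFppfSource_finiteType g h ‹_›

lemma locallyOfFinitePresentation_of_precomp_fppf {X Y Z : Scheme.{u}} (g : X ⟶ Y) (h : Y ⟶ Z)
    [Flat g] [LocallyOfFinitePresentation g] [Surjective g] [LocallyOfFinitePresentation (g ≫ h)] :
    LocallyOfFinitePresentation h :=
  of_precomp_fppf (P := @LocallyOfFinitePresentation) descendsFppfSource_finitePresentation g h ‹_›

lemma smooth_of_precomp_fppf {X Y Z : Scheme.{u}} (g : X ⟶ Y) (h : Y ⟶ Z) [Flat g]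
    [LocallyOfFinitePresentation g] [Surjective g] [Smooth (g ≫ h)] : Smooth h :=
  of_precomp_fppf (P := @Smooth) descendsFppfSource_smooth g h ‹_›

end Groth.Agent.FppfSrc
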