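import Groth.Agent.FpqcDesc.Stalk
import Groth.Agent.FppfSrc.Scheme
import Groth.Agent.FlatLocus.FibreCrit
/-!
Descending properties of `k` from `m ≫ k` when `m` has sections after an fppf covering.
-/

set_option backward.isDefEq.respectTransparency false

universe u

open CategoryTheory CategoryTheory.Limits AlgebraicGeometry TensorProduct

namespace Groth.Agent.FppfSrc

/-- `B` is flat over `A` if a faithfully flat `B`-algebra factors through a `B`-algebra flat over
`A`. -/
theorem flat_of_factor (A B D C : Type u) [CommRing A] [CommRing B] [CommRing D] [CommRing C]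
    [Algebra A B] [Algebra B D] [Algebra D C] [Algebra A D] [Algebra B C] [Algebra A C]
    [IsScalarTower A B D] [IsScalarTower B D C] [IsScalarTower A B C]
    [Module.FaithfullyFlat B C] [Module.Flat A D] : Module.Flat A B := by
  haveI : IsScalarTower A D C := .of_algebraMap_eq fun a => by
    rw [IsScalarTower.algebraMap_apply A B D, ← IsScalarTower.algebraMap_apply B D C,
      ← IsScalarTower.algebraMap_apply A B C]
  rw [Module.Flat.iff_lTensor_preserves_injective_linearMap]
  intro N P _ _ _ _ φ hφ
  let ι : B →ₗ[A] D := (IsScalarTower.toAlgHom A B D).toLinearMap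
  let κ : D →ₗ[A] C := (IsScalarTower.toAlgHom A D C).toLinearMap
  have hDflat : Function.Injective (φ.lTensor D) :=
    Module.Flat.lTensor_preserves_injective_linearMap φ hφ
  have hinj : Function.Injective ((κ ∘ₗ ι).rTensor N) := by
    have h : ∀ z, (κ ∘ₗ ι).rTensor N z =
        AlgebraTensorModule.cancelBaseChange A B B C N ((1 : C) ⊗ₜ[B] z) := by
      intro z
      induction z using TensorProduct.induction_on with
      | zero => simp
      | add x y hx hy => simp [tmul_add, hx, hy]
      | tmul b n =>
        simp [ι, κ, Algebra.smul_def, ← IsScalarTower.algebraMap_apply]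
    rw [show ((κ ∘ₗ ι).rTensor N : _ → _) = _ from funext h]
    exact (LinearEquiv.injective _).comp
      (Module.FaithfullyFlat.tensorProduct_mk_injective (A := B) (B := C) (B ⊗[A] N))
  rw [injective_iff_map_eq_zero]
  intro x hx
  apply hinj
  rw [map_zero, LinearMap.rTensor_comp, LinearMap.comp_apply,
    show ι.rTensor N x = 0 from hDflat ?_, map_zero]
  rw [map_zero, ← LinearMap.comp_apply, LinearMap.lTensor_comp_rTensor,
    ← LinearMap.rTensor_comp_lTensor, LinearMap.comp_apply, hx, map_zero]

variable {T M U V : Scheme.{u}} (t : T ⟶ U) (m : M ⟶ U) (s : T ⟶ M) (k : U ⟶ V)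

/-- Flatness of `k` from flatness of `m ≫ k` if a flat surjection factors through `m`. -/
theorem flat_of_factor_scheme [Flat t] [Surjective t] [Flat (m ≫ k)] (h : s ≫ m = t) : Flat k := by
  refine Flat.of_stalkMap _ fun x => ?_
  obtain ⟨z, rfl⟩ := t.surjective x
  subst h
  obtain ⟨a, ha⟩ : ∃ a : V.presheaf.stalk (k ((s ≫ m) z)) →+* U.presheaf.stalk ((s ≫ m) z),
      a = (k.stalkMap ((s ≫ m) z)).hom := ⟨_, rfl⟩
  obtain ⟨b, hb⟩ : ∃ b : U.presheaf.stalk ((s ≫ m) z) →+* M.presheaf.stalk (s z),
      b = (m.stalkMap (s z)).hom := ⟨_, rfl⟩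
  obtain ⟨c, hc⟩ : ∃ c : M.presheaf.stalk (s z) →+* T.presheaf.stalk z,
      c = (s.stalkMap z).hom := ⟨_, rfl⟩
  show (k.stalkMap ((s ≫ m) z)).hom.Flat
  rw [← ha]
  have hbc : ((s ≫ m).stalkMap z).hom = c.comp b := by rw [hb, hc, Scheme.Hom.stalkMap_comp]; rfl
  have hab : ((m ≫ k).stalkMap (s z)).hom = b.comp a := by rw [ha, hb, Scheme.Hom.stalkMap_comp]; rfl
  have h1 : (c.comp b).Flat := hbc ▸ Flat.stalkMap (s ≫ m) z
  have h2 : (b.comp a).Flat := hab ▸ Flat.stalkMap (m ≫ k) (s z)
  haveI hloc : IsLocalHom (c.comp b) := hbc ▸ inferInstanceAs (IsLocalHom ((s ≫ m).stalkMap z).hom)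
  algebraize [a, b, c, b.comp a, c.comp b, (c.comp b).comp a]
  haveI : IsLocalHom (algebraMap (U.presheaf.stalk ((s ≫ m) z)) (T.presheaf.stalk z)) := hloc
  haveI := Module.FaithfullyFlat.of_flat_of_isLocalHom (A := U.presheaf.stalk ((s ≫ m) z))
    (B := T.presheaf.stalk z)
  exact flat_of_factor (V.presheaf.stalk (k ((s ≫ m) z))) (U.presheaf.stalk ((s ≫ m) z))
    (M.presheaf.stalk (s z)) (T.presheaf.stalk z)

/-- Finite type of `k` from finite type of `m ≫ k` if an fppf covering factors through `m`. -/
theorem locallyOfFiniteType_of_factor [Flat t] [LocallyOfFinitePresentation t] [Surjective t]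
    [LocallyOfFiniteType (m ≫ k)] (h : s ≫ m = t) : LocallyOfFiniteType k := by
  haveI : LocallyOfFiniteType m := locallyOfFiniteType_of_comp m k
  let s' : T ⟶ pullback m t := pullback.lift s (𝟙 T) (by rw [h, Category.id_comp])
  haveI : LocallyOfFiniteType (s' ≫ pullback.snd m t) := by rw [pullback.lift_snd]; infer_instance
  haveI : LocallyOfFiniteType s' := locallyOfFiniteType_of_comp s' (pullback.snd m t)
  have e : t ≫ k = s' ≫ pullback.fst m t ≫ m ≫ k := by simp [s', reassoc_of% h]
  haveI : LocallyOfFiniteType (t ≫ k) := by rw [e]; infer_instance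
  exact locallyOfFiniteType_of_precomp_fppf t k

/-- Finite presentation of `k` from that of `m ≫ k` if an fppf covering factors through `m`. -/
theorem locallyOfFinitePresentation_of_factor [Flat t] [LocallyOfFinitePresentation t] [Surjective t]
    [LocallyOfFinitePresentation (m ≫ k)] (h : s ≫ m = t) : LocallyOfFinitePresentation k := by
  haveI : LocallyOfFiniteType m := locallyOfFiniteType_of_comp m k
  let s' : T ⟶ pullback m t := pullback.lift s (𝟙 T) (by rw [h, Category.id_comp])
  haveI : LocallyOfFinitePresentation (s' ≫ pullback.snd m t) := by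
    rw [pullback.lift_snd]; infer_instance
  haveI : LocallyOfFinitePresentation s' :=
    FlatLocus.locallyOfFinitePresentation_of_comp s' (pullback.snd m t)
  have e : t ≫ k = s' ≫ pullback.fst m t ≫ m ≫ k := by simp [s', reassoc_of% h]
  haveI : LocallyOfFinitePresentation (t ≫ k) := by rw [e]; infer_instance
  exact locallyOfFinitePresentation_of_precomp_fppf t k

end Groth.Agent.FppfSrc
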