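import Groth.Agent.FlatLocus.Main

set_option autoImplicit false
set_option linter.style.haveILetI false
set_option backward.isDefEq.respectTransparency false
set_option backward.defeqAttrib.useBackward true

/-!
# Flat finitely presented algebras descend to a finitely generated subring
-/

universe u

open MvPolynomial TensorProduct Groth.Agent.GenFree Groth.Agent.FlatLocus

namespace Groth.Agent.FppfSrc

variable {n a : ℕ}

theorem exists_map_eq' {R : Type u} [CommRing R] (S : Subalgebra ℤ R) (s : MvPolynomial (Fin n) R)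
    (h : ∀ m, coeff m s ∈ S) : ∃ s1, MvPolynomial.map (algebraMap S R) s1 = s := by
  refine ⟨∑ m ∈ s.support, monomial m (⟨coeff m s, h m⟩ : S), ?_⟩
  rw [map_sum]
  simp only [map_monomial]
  exact s.as_sum.symm

theorem isLocalizedModule_bot_id {B M : Type u} [CommRing B] [AddCommGroup M] [Module B M] :
    IsLocalizedModule (⊥ : Submonoid B) (LinearMap.id : M →ₗ[B] M) where
  map_units x := by
    rw [Submonoid.mem_bot.mp x.2, map_one]
    exact isUnit_one
  surj y := ⟨⟨y, 1⟩, by simp⟩
  exists_of_eq h := ⟨1, by simpa using h⟩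

/-- A flat quotient has the whole spectrum as flat set. -/
theorem flatSet_eq_univ {R : Type u} [CommRing R]
    (N : Submodule (MvPolynomial (Fin n) R) (FreeMod R a n))
    [Module.Flat R (FreeMod R a n ⧸ N)] : flatSet N = Set.univ := by
  refine Set.eq_univ_of_forall fun q => mem_flatSet_iff.mpr fun I => ?_
  haveI := isLocalizedModule_bot_id (B := MvPolynomial (Fin n) R) (M := FreeMod R a n ⧸ N)
  have h := rel_of_flat R N ⊥ (LinearMap.id : (FreeMod R a n ⧸ N) →ₗ[_] _) I
  rw [locN_self] at h
  refine h.mono ?_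
  rw [Submonoid.map_bot]
  exact bot_le

theorem flat_quotient_of_flatSet {R : Type u} [CommRing R]
    (N : Submodule (MvPolynomial (Fin n) R) (FreeMod R a n)) (h : flatSet N = Set.univ) :
    Module.Flat R (FreeMod R a n ⧸ N) := by
  refine Module.flat_of_isLocalized_maximal (MvPolynomial (Fin n) R) (FreeMod R a n ⧸ N)
    (fun P _ => LocalizedModule P.primeCompl (FreeMod R a n ⧸ N))
    (fun P _ => LocalizedModule.mkLinearMap P.primeCompl (FreeMod R a n ⧸ N)) fun P hP => ?_
  exact (h ▸ Set.mem_univ (⟨P, hP.isPrime⟩ : PrimeSpectrum _) :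
    (⟨P, hP.isPrime⟩ : PrimeSpectrum _) ∈ flatSet N)

/-- Enlarging a finitely generated subalgebra to make a model flat. -/
theorem exists_flat_enlarge {R : Type u} [CommRing R] (S : Subalgebra ℤ R) (hS : S.FG)
    (N0 : Submodule (MvPolynomial (Fin n) S) (FreeMod S a n))
    [Module.Flat R (FreeMod R a n ⧸ locN R N0)] :
    ∃ (S' : Subalgebra ℤ R) (hle : S ≤ S'), S'.FG ∧
      letI := (Subalgebra.inclusion hle).toRingHom.toAlgebra
      flatSet (locN S' N0) = Set.univ := by
  classical
  haveI : IsNoetherianRing S := isNoetherianRing_of_fg hS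
  have hmem : ∀ q, q ∈ flatSet (locN R N0) := fun q => by rw [flatSet_eq_univ]; trivial
  choose T hT hq using fun q => exists_subalgebra N0 q (mem_flatSet_iff.mp (hmem q) _)
  haveI : ∀ q, IsNoetherianRing (T q) := fun q => isNoetherianRing_of_fg (hT q)
  obtain ⟨s, hs⟩ := isCompact_univ.elim_finite_subcover
    (fun q => PrimeSpectrum.comap (MvPolynomial.map (algebraMap (T q) R)) ⁻¹'
      flatSet (locN (T q) N0))
    (fun q => (isOpen_flatSet_noeth (locN (T q) N0)).preimage (PrimeSpectrum.continuous_comap _))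
    (fun q _ => Set.mem_iUnion.mpr ⟨q, hq q⟩)
  -- the first enlargement
  let W : Subalgebra ℤ R := S ⊔ s.sup fun q => (T q).restrictScalars ℤ
  have hSW : S ≤ W := le_sup_left
  have hTW : ∀ q ∈ s, (T q).restrictScalars ℤ ≤ W := fun q hq' =>
    (Finset.le_sup (f := fun q => (T q).restrictScalars ℤ) hq').trans le_sup_right
  have hWfg : W.FG := by
    refine hS.sup ?_
    refine Finset.sup_induction Subalgebra.fg_bot (fun A hA B hB => hA.sup hB) fun q _ => ?_
    haveI : Algebra.FiniteType ℤ S := (Subalgebra.fg_iff_finiteType S).1 hS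
    haveI : Algebra.FiniteType S (T q) := (Subalgebra.fg_iff_finiteType _).1 (hT q)
    have hTq : Algebra.FiniteType ℤ (T q) := Algebra.FiniteType.trans (S := S) ‹_› ‹_›
    exact (Subalgebra.fg_iff_finiteType _).2 (show Algebra.FiniteType ℤ ↥((T q).restrictScalars ℤ) from hTq)
  haveI : IsNoetherianRing W := isNoetherianRing_of_fg hWfg
  letI algSW : Algebra S W := (Subalgebra.inclusion hSW).toRingHom.toAlgebra
  haveI : IsScalarTower S W R := .of_algebraMap_eq fun _ => rfl
  have hcov : ∀ q : PrimeSpectrum (MvPolynomial (Fin n) R),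
      PrimeSpectrum.comap (MvPolynomial.map (algebraMap W R)) q ∈ flatSet (locN W N0) := by
    intro q
    obtain ⟨q', hq', hmemq⟩ := Set.mem_iUnion₂.mp (hs (Set.mem_univ q))
    letI : Algebra (T q') W :=
      ((T q').val.toRingHom.codRestrict W fun x => hTW q' hq' x.2).toAlgebra
    haveI : IsScalarTower (T q') W R := .of_algebraMap_eq fun _ => rfl
    haveI : IsScalarTower S (T q') W := .of_algebraMap_eq fun _ => rfl
    rw [← locN_locN (T q') N0]
    refine mem_flatSet_of_comap (T q') _ _ ?_
    rw [← PrimeSpectrum.comap_comp_apply]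
    have e : (MvPolynomial.map (algebraMap W R)).comp (MvPolynomial.map (algebraMap (T q') W)) =
        MvPolynomial.map (σ := Fin n) (algebraMap (T q') R) := by
      refine MvPolynomial.ringHom_ext (fun r => ?_) fun i => ?_
      · simp only [RingHom.comp_apply, map_C, ← IsScalarTower.algebraMap_apply]
      · simp
    rw [e]
    exact hmemq
  obtain ⟨J, hJ⟩ := (PrimeSpectrum.isClosed_iff_zeroLocus_ideal _).1
    (isOpen_flatSet_noeth (locN W N0)).isClosed_compl
  have htop : (1 : MvPolynomial (Fin n) R) ∈ J.map (MvPolynomial.map (algebraMap W R)) := by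
    by_contra h1
    obtain ⟨m, hm, hle⟩ := Ideal.exists_le_maximal _ ((Ideal.ne_top_iff_one _).mpr h1)
    have := hcov ⟨m, hm.isPrime⟩
    refine (Set.ext_iff.1 hJ _).2 ?_ this
    rw [PrimeSpectrum.mem_zeroLocus]
    exact Ideal.map_le_iff_le_comap.1 hle
  rw [Ideal.map] at htop
  obtain ⟨k, c, x, hcx⟩ := Submodule.mem_span_set'.1 htop
  choose y hy hy' using fun j => (x j).2
  -- the second enlargement
  let S' : Subalgebra ℤ R := W ⊔ Algebra.adjoin ℤ
    ((Finset.univ.biUnion fun j => (c j).support.image fun m => coeff m (c j) : Finset R) : Set R)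
  have hWS' : W ≤ S' := le_sup_left
  have hS'fg : S'.FG := hWfg.sup (Subalgebra.fg_adjoin_finset _)
  refine ⟨S', hSW.trans hWS', hS'fg, ?_⟩
  letI algS : Algebra S S' := (Subalgebra.inclusion (hSW.trans hWS')).toRingHom.toAlgebra
  letI algW : Algebra W S' := (Subalgebra.inclusion hWS').toRingHom.toAlgebra
  haveI : IsScalarTower W S' R := .of_algebraMap_eq fun _ => rfl
  haveI : IsScalarTower S W S' := .of_algebraMap_eq fun _ => rfl
  choose c' hc' using fun j => exists_map_eq' S' (c j) fun m => by
    by_cases hm : coeff m (c j) = 0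
    · rw [hm]; exact S'.zero_mem
    · exact (le_sup_right : _ ≤ S') (Algebra.subset_adjoin (Finset.mem_biUnion.mpr
        ⟨j, Finset.mem_univ _, Finset.mem_image_of_mem _ (mem_support_iff.mpr hm)⟩))
  have hinj : Function.Injective (MvPolynomial.map (σ := Fin n) (algebraMap S' R)) :=
    MvPolynomial.map_injective _ Subtype.val_injective
  have e : (MvPolynomial.map (algebraMap S' R)).comp (MvPolynomial.map (algebraMap W S')) =
      MvPolynomial.map (σ := Fin n) (algebraMap W R) :=
    MvPolynomial.ringHom_ext (fun r => by simp [← IsScalarTower.algebraMap_apply]) fun i => by simp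
  have h1 : (1 : MvPolynomial (Fin n) S') = ∑ j, c' j * MvPolynomial.map (algebraMap W S') (y j) := by
    apply hinj
    rw [map_one, map_sum]
    simp only [map_mul, hc', ← RingHom.comp_apply, e, hy']
    exact hcx.symm
  refine Set.eq_univ_of_forall fun p => ?_
  rw [← locN_locN W N0]
  refine mem_flatSet_of_comap W _ p ?_
  by_contra hp
  have hp' := (Set.ext_iff.1 hJ _).1 hp
  rw [PrimeSpectrum.mem_zeroLocus] at hp'
  refine p.isPrime.ne_top ((Ideal.eq_top_iff_one _).mpr ?_)
  rw [h1]
  exact Ideal.sum_mem _ fun j _ => Ideal.mul_mem_left _ _ (hp' (hy j))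

/-- An ideal as a submodule of the free module of rank one. -/
noncomputable def idealN {R : Type u} [CommRing R] (I : Ideal (MvPolynomial (Fin n) R)) :
    Submodule (MvPolynomial (Fin n) R) (FreeMod R 1 n) :=
  Submodule.comap (LinearEquiv.funUnique (Fin 1) (MvPolynomial (Fin n) R)
    (MvPolynomial (Fin n) R)).toLinearMap I

theorem map_locN_idealN {R : Type u} [CommRing R] (I : Ideal (MvPolynomial (Fin n) R))
    (A : Type u) [CommRing A] [Algebra R A] :
    (locN A (idealN I)).map ((LinearEquiv.funUnique (Fin 1) (MvPolynomial (Fin n) A)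
      (MvPolynomial (Fin n) A) : FreeMod A 1 n ≃ₗ[MvPolynomial (Fin n) A] MvPolynomial (Fin n) A) :
        FreeMod A 1 n →ₗ[MvPolynomial (Fin n) A] MvPolynomial (Fin n) A) =
      I.map (MvPolynomial.map (algebraMap R A)) := by
  rw [locN, Submodule.map_span, ← Set.image_comp, Ideal.map]
  congr 1
  ext z
  constructor
  · rintro ⟨v, hv, rfl⟩
    exact ⟨v default, hv, (phi_apply A v default).symm⟩
  · rintro ⟨v, hv, rfl⟩
    exact ⟨fun _ => v, hv, phi_apply A (fun _ : Fin 1 => v) default⟩

theorem flat_map_of_flatSet {R : Type u} [CommRing R] (I : Ideal (MvPolynomial (Fin n) R))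
    (A : Type u) [CommRing A] [Algebra R A] (h : flatSet (locN A (idealN I)) = Set.univ) :
    Module.Flat A (MvPolynomial (Fin n) A ⧸ I.map (MvPolynomial.map (algebraMap R A))) := by
  haveI := flat_quotient_of_flatSet _ h
  exact Module.Flat.of_linearEquiv
    ((Submodule.Quotient.equiv _ _ _ (map_locN_idealN I A)).restrictScalars A).symm

theorem flat_locN_of_flat_map {R : Type u} [CommRing R] (I : Ideal (MvPolynomial (Fin n) R))
    (A : Type u) [CommRing A] [Algebra R A]
    [Module.Flat A (MvPolynomial (Fin n) A ⧸ I.map (MvPolynomial.map (algebraMap R A)))] :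
    Module.Flat A (FreeMod A 1 n ⧸ locN A (idealN I)) :=
  Module.Flat.of_linearEquiv
    ((Submodule.Quotient.equiv _ _ _ (map_locN_idealN I A)).restrictScalars A)

/-- The model defined by a flat quotient. -/
theorem exists_model_of_flatSet {R : Type u} [CommRing R] (I : Ideal (MvPolynomial (Fin n) R))
    (hI : I.FG) (A B C : Type u) [CommRing A] [CommRing B] [CommRing C] [Algebra R A] [Algebra A B]
    [Algebra R B] [IsScalarTower R A B] [Algebra B C] (π : MvPolynomial (Fin n) B →ₐ[B] C)
    (hπ : Function.Surjective π)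
    (hker : RingHom.ker π.toRingHom = I.map (MvPolynomial.map (algebraMap R B)))
    (h : flatSet (locN A (idealN I)) = Set.univ) :
    ∃ (C₀ : Type u) (_ : CommRing C₀) (_ : Algebra A C₀),
      Algebra.FinitePresentation A C₀ ∧ Module.Flat A C₀ ∧ Nonempty (C ≃ₐ[B] B ⊗[A] C₀) := by
  let I' : Ideal (MvPolynomial (Fin n) A) := I.map (MvPolynomial.map (algebraMap R A))
  refine ⟨MvPolynomial (Fin n) A ⧸ I', inferInstance, inferInstance,
    Algebra.FinitePresentation.quotient (hI.map _), flat_map_of_flatSet I A h, ?_⟩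
  let e3 : B ⊗[A] (MvPolynomial (Fin n) A ⧸ I') ≃ₐ[B]
      (B ⊗[A] MvPolynomial (Fin n) A) ⧸ I'.map (Algebra.TensorProduct.includeRight :
        MvPolynomial (Fin n) A →ₐ[A] B ⊗[A] MvPolynomial (Fin n) A) :=
    Algebra.TensorProduct.tensorQuotientEquiv (R := A) B (MvPolynomial (Fin n) A) B I'
  let e4 : B ⊗[A] MvPolynomial (Fin n) A ≃ₐ[B] MvPolynomial (Fin n) B :=
    MvPolynomial.algebraTensorAlgEquiv A B
  have hmap : RingHom.ker π.toRingHom =
      (I'.map (Algebra.TensorProduct.includeRight :
        MvPolynomial (Fin n) A →ₐ[A] B ⊗[A] MvPolynomial (Fin n) A)).map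
          (e4 : B ⊗[A] MvPolynomial (Fin n) A →+* MvPolynomial (Fin n) B) := by
    rw [hker]
    refine Eq.trans ?_ (Eq.symm (Ideal.map_map _ _))
    refine Eq.trans ?_ (Eq.symm (Ideal.map_map _ _))
    congr 1
    refine MvPolynomial.ringHom_ext (fun r => ?_) fun i => ?_
    · simp [e4, IsScalarTower.algebraMap_apply R A B, Algebra.smul_def]
    · simp [e4]
  exact ⟨((e3.trans (Ideal.quotientEquivAlg _ _ e4 hmap)).trans
    (Ideal.quotientKerAlgEquivOfSurjective hπ)).symm⟩

/-- A flat finitely presented algebra descends to a flat finitely presented algebra over a finitely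
generated subring. -/
theorem exists_flat_model (B C : Type u) [CommRing B] [CommRing C] [Algebra B C]
    [Algebra.FinitePresentation B C] [Module.Flat B C] :
    ∃ (B₁ : Subalgebra ℤ B) (C₀ : Type u) (_ : CommRing C₀) (_ : Algebra B₁ C₀), B₁.FG ∧
      Algebra.FinitePresentation B₁ C₀ ∧ Module.Flat B₁ C₀ ∧
      Nonempty (C ≃ₐ[B] B ⊗[B₁] C₀) := by
  classical
  obtain ⟨n, π, hπ, G, hG⟩ := Algebra.FinitePresentation.out (R := B) (A := C)
  let S : Subalgebra ℤ B := Algebra.adjoin ℤ
    ((G.biUnion fun g => g.support.image fun m => coeff m g : Finset B) : Set B)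
  have hS : S.FG := Subalgebra.fg_adjoin_finset _
  choose g0 hg0 using fun g : G => exists_map_eq' S (g : MvPolynomial (Fin n) B) fun m => show coeff m (g : MvPolynomial (Fin n) B) ∈ S by
    by_cases hm : coeff m (g : MvPolynomial (Fin n) B) = 0
    · rw [hm]; exact S.zero_mem
    · exact Algebra.subset_adjoin (Finset.mem_biUnion.mpr
        ⟨g, g.2, Finset.mem_image_of_mem _ (mem_support_iff.mpr hm)⟩)
  let I0 : Ideal (MvPolynomial (Fin n) S) := Ideal.span (Set.range g0)
  have hker : RingHom.ker π.toRingHom = I0.map (MvPolynomial.map (algebraMap S B)) := by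
    rw [← hG, Ideal.map_span, ← Set.range_comp]
    congr 1
    ext z
    exact ⟨fun hz => ⟨⟨z, hz⟩, hg0 _⟩, by rintro ⟨g, rfl⟩; simp only [Function.comp_apply, hg0]; exact g.2⟩
  let e2 : (MvPolynomial (Fin n) B ⧸ I0.map (MvPolynomial.map (algebraMap S B))) ≃ₐ[B] C :=
    (Ideal.quotientEquivAlgOfEq B hker.symm).trans (Ideal.quotientKerAlgEquivOfSurjective hπ)
  haveI : Module.Flat B (MvPolynomial (Fin n) B ⧸ I0.map (MvPolynomial.map (algebraMap S B))) :=
    Module.Flat.of_linearEquiv e2.toLinearEquiv
  haveI := flat_locN_of_flat_map I0 B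
  obtain ⟨S', hle, hS', hflat⟩ := exists_flat_enlarge S hS (idealN I0)
  letI : Algebra S S' := (Subalgebra.inclusion hle).toRingHom.toAlgebra
  haveI : IsScalarTower S S' B := .of_algebraMap_eq fun _ => rfl
  obtain ⟨C₀, i1, i2, h1, h2, h3⟩ :=
    exists_model_of_flatSet I0 (Submodule.fg_span (Set.finite_range g0)) S' B C π hπ hker hflat
  exact ⟨S', C₀, i1, i2, hS', h1, h2, h3⟩

end Groth.Agent.FppfSrc
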