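import Groth.Agent.FppfSrc.Scheme
/-!
Etaleness descends along fppf maps on the source.
-/

set_option backward.isDefEq.respectTransparency false

universe u

open TensorProduct

namespace Groth.Agent.FppfSrc

/-- Over a field formal unramifiedness descends along faithfully flat maps to finite etale algebras. -/
theorem formallyUnramified_of_faithfullyFlat_field (k B C : Type u) [Field k] [CommRing B] [CommRing C]
    [Algebra k B] [Algebra B C] [Algebra k C] [IsScalarTower k B C] [Module.FaithfullyFlat B C]
    [Algebra.FiniteType k B] [Algebra.FiniteType k C] [Algebra.FormallyUnramified k C] :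
    Algebra.FormallyUnramified k B := by
  let K := AlgebraicClosure k
  let φ : K ⊗[k] B →ₐ[K] K ⊗[k] C :=
    Algebra.TensorProduct.map (AlgHom.id K K) (IsScalarTower.toAlgHom k B C)
  have hφ : Function.Injective φ :=
    Module.Flat.lTensor_preserves_injective_linearMap (M := K)
      (IsScalarTower.toAlgHom k B C).toLinearMap (FaithfulSMul.algebraMap_injective B C)
  haveI := Algebra.FormallyUnramified.isReduced_of_field K (K ⊗[k] C)
  haveI : IsReduced (K ⊗[k] B) := isReduced_of_injective φ hφ
  haveI : Module.Finite K (K ⊗[k] C) := Algebra.FormallyUnramified.finite_of_free K _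
  haveI : Module.Finite K (K ⊗[k] B) := Module.Finite.of_injective φ.toLinearMap hφ
  haveI : IsArtinianRing (K ⊗[k] B) := .of_finite K _
  haveI : ∀ I : MaximalSpectrum (K ⊗[k] B), Algebra.FormallyEtale K ((K ⊗[k] B) ⧸ I.asIdeal) := fun I => by
    letI := Ideal.Quotient.field I.asIdeal
    exact Algebra.FormallyEtale.of_isSeparable K _
  haveI : Algebra.FormallyEtale K (K ⊗[k] B) :=
    .of_equiv ((IsArtinianRing.equivPi (K ⊗[k] B)).restrictScalars K).symm
  exact Algebra.FormallyUnramified.of_formallyUnramified_tensorProduct_of_faithfullyFlat K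

/-- Formal unramifiedness follows from the fibres. -/
theorem formallyUnramified_of_fibre (A B : Type u) [CommRing A] [CommRing B] [Algebra A B]
    [Algebra.FiniteType A B]
    (h : ∀ (p : Ideal A) [p.IsPrime], Algebra.FormallyUnramified p.ResidueField (p.Fiber B)) :
    Algebra.FormallyUnramified A B := by
  constructor
  rw [← Module.support_eq_empty_iff (R := B), Set.eq_empty_iff_forall_notMem]
  intro q hq
  rw [Module.mem_support_iff_nontrivial_residueField_tensorProduct] at hq
  let p := q.asIdeal.under A
  let k := p.ResidueField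
  haveI := h p
  letI : Algebra B (k ⊗[A] B) := Algebra.TensorProduct.rightAlgebra
  haveI : Subsingleton (k ⊗[A] Ω[B⁄A]) :=
    (KaehlerDifferential.tensorKaehlerEquivBase A k B (k ⊗[A] B)).subsingleton
  letI : Algebra k q.asIdeal.ResidueField :=
    (Ideal.ResidueField.map p q.asIdeal (algebraMap A B) rfl).toAlgebra
  haveI : IsScalarTower A k q.asIdeal.ResidueField := .of_algebraMap_eq fun a => by
    rw [RingHom.algebraMap_toAlgebra, IsScalarTower.algebraMap_apply A B q.asIdeal.ResidueField]
    simp [k]
  haveI : Subsingleton (q.asIdeal.ResidueField ⊗[A] Ω[B⁄A]) :=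
    (AlgebraTensorModule.cancelBaseChange A k k q.asIdeal.ResidueField Ω[B⁄A]).symm.toEquiv.subsingleton
  have hsurj : Function.Surjective
      (mapOfCompatibleSMul B A A q.asIdeal.ResidueField Ω[B⁄A]) := fun z => by
    induction z using TensorProduct.induction_on with
    | zero => exact ⟨0, map_zero _⟩
    | tmul a b => exact ⟨a ⊗ₜ b, rfl⟩
    | add x y hx hy =>
      obtain ⟨a, rfl⟩ := hx
      obtain ⟨b, rfl⟩ := hy
      exact ⟨a + b, map_add _ _ _⟩
  exact not_nontrivial_iff_subsingleton.mpr hsurj.subsingleton hq

/-- Etaleness descends along faithfully flat finitely presented maps on the source. -/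
theorem etale_of_fppf (A B C : Type u) [CommRing A] [CommRing B] [CommRing C] [Algebra A B]
    [Algebra B C] [Algebra A C] [IsScalarTower A B C] [Algebra.FinitePresentation B C]
    [Module.FaithfullyFlat B C] [Algebra.Etale A C] : Algebra.Etale A B := by
  haveI : Algebra.Smooth A B := smooth_of_fppf A B C
  haveI : Algebra.FormallyUnramified A B := formallyUnramified_of_fibre A B fun p _ => by
    let k := p.ResidueField
    let B' := p.Fiber B
    letI : Algebra B B' := Algebra.TensorProduct.rightAlgebra
    haveI : IsScalarTower A B B' := .of_algebraMap_eq fun r => by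
      show algebraMap A (k ⊗[A] B) r = (1 : k) ⊗ₜ[A] algebraMap A B r
      rw [Algebra.TensorProduct.algebraMap_apply, Algebra.algebraMap_eq_smul_one,
        Algebra.algebraMap_eq_smul_one, smul_tmul]
    let C' := B' ⊗[B] C
    let e : C' ≃ₐ[k] k ⊗[A] C := Algebra.IsPushout.cancelBaseChangeAlg A k B B' C
    haveI : Algebra.FormallyUnramified k C' := Algebra.FormallyUnramified.of_equiv e.symm
    haveI : Algebra.FiniteType k C' := Algebra.FiniteType.equiv inferInstance e.symm
    exact formallyUnramified_of_faithfullyFlat_field k B' C'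
  exact Algebra.Etale.of_formallyUnramified_of_flat

open CategoryTheory AlgebraicGeometry

lemma descendsFppfSource_etale : DescendsFppfSource @RingHom.Etale := by
  intro A B C _ _ _ f g hg hff h
  algebraize [f, g, g.comp f]
  rw [← RingHom.algebraMap_toAlgebra f, RingHom.etale_algebraMap]
  exact etale_of_fppf A B C

lemma etale_of_precomp_fppf {X Y Z : Scheme.{u}} (g : X ⟶ Y) (h : Y ⟶ Z) [Flat g]
    [LocallyOfFinitePresentation g] [Surjective g] [Etale (g ≫ h)] : Etale h :=
  of_precomp_fppf (P := @Etale) descendsFppfSource_etale g h ‹_›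

end Groth.Agent.FppfSrc
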