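import Mathlib
import Groth.Agent.FppfSrc.Etale
import Groth.Agent.FlatLocus.Scheme
import Groth.Agent.FlatLocus.FibreCrit

/-!
Descent of properties along morphisms flat at a point.
-/

set_option autoImplicit false
set_option backward.isDefEq.respectTransparency false
set_option backward.isDefEq.respectTransparency.types false
set_option linter.style.haveILetI false
set_option maxHeartbeats 800000

universe u

open CategoryTheory CategoryTheory.Limits AlgebraicGeometry

namespace Groth.Agent.FppfSrc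

/-- A fppf descent on the source with finite type hypothesis for formally unramified maps. -/
theorem formallyUnramified_of_fppf (A B C : Type u) [CommRing A] [CommRing B] [CommRing C] [Algebra A B]
    [Algebra B C] [Algebra A C] [IsScalarTower A B C] [Algebra.FiniteType A B] [Algebra.FiniteType B C]
    [Module.FaithfullyFlat B C] [Algebra.FormallyUnramified A C] : Algebra.FormallyUnramified A B :=
  haveI : Algebra.FiniteType A C := Algebra.FiniteType.trans ‹_› ‹Algebra.FiniteType B C›
  formallyUnramified_of_fibre A B fun p _ => by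
    let k := p.ResidueField
    let B' := p.Fiber B
    letI : Algebra B B' := Algebra.TensorProduct.rightAlgebra
    haveI : IsScalarTower A B B' := .of_algebraMap_eq fun r => by
      show algebraMap A (TensorProduct A k B) r = TensorProduct.tmul A (1 : k) (algebraMap A B r)
      rw [Algebra.TensorProduct.algebraMap_apply, Algebra.algebraMap_eq_smul_one,
        Algebra.algebraMap_eq_smul_one, TensorProduct.smul_tmul]
    let C' := TensorProduct B B' C
    let e : C' ≃ₐ[k] TensorProduct A k C := Algebra.IsPushout.cancelBaseChangeAlg A k B B' C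
    haveI : Algebra.FormallyUnramified k C' := Algebra.FormallyUnramified.of_equiv e.symm
    haveI : Algebra.FiniteType k C' := Algebra.FiniteType.equiv inferInstance e.symm
    exact formallyUnramified_of_faithfullyFlat_field k B' C'

theorem formallyUnramified_of_precomp_fppf {X Y Z : Scheme.{u}} (g : X ⟶ Y) (h : Y ⟶ Z) [Flat g]
    [LocallyOfFinitePresentation g] [Surjective g] [LocallyOfFiniteType h]
    [hgh : FormallyUnramified (g ≫ h)] : FormallyUnramified h := by
  rw [HasRingHomProperty.iff_appLE (P := @FormallyUnramified)]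
  intro U V e
  haveI : IsAffine (V : Scheme.{u}) := V.2
  haveI : IsAffine (U : Scheme.{u}) := U.2
  haveI : Flat (g ∣_ V.1) := IsZariskiLocalAtTarget.restrict (P := @Flat) ‹_› V.1
  haveI : LocallyOfFinitePresentation (g ∣_ V.1) :=
    IsZariskiLocalAtTarget.restrict (P := @LocallyOfFinitePresentation) ‹_› V.1
  haveI : Surjective (g ∣_ V.1) := IsZariskiLocalAtTarget.restrict (P := @Surjective) ‹_› V.1
  obtain ⟨W, w, hW, hw1, hw1', hw2, hloc⟩ := exists_affine_refinement_fppf (g ∣_ V.1)
  have hP1 : FormallyUnramified (g ∣_ V.1 ≫ h.resLE U.1 V.1 e) := by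
    have e1 : g ∣_ V.1 ≫ h.resLE U.1 V.1 e = (g ≫ h).resLE U.1 (g ⁻¹ᵁ V.1)
        (fun x hx => e hx) := by
      apply (cancel_mono U.1.ι).1
      rw [Category.assoc, Scheme.Hom.resLE_comp_ι, morphismRestrict_ι_assoc,
        Scheme.Hom.resLE_comp_ι]
    rw [e1]
    exact IsZariskiLocalAtSource.resLE _ hgh
  have hP2 : FormallyUnramified (w ≫ g ∣_ V.1 ≫ h.resLE U.1 V.1 e) := hloc @FormallyUnramified _ hP1
  rw [← Category.assoc, HasRingHomProperty.iff_of_isAffine (P := @FormallyUnramified),
    Scheme.Hom.comp_appTop, CommRingCat.hom_comp] at hP2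
  have hE : (w ≫ g ∣_ V.1).appTop.hom.FinitePresentation :=
    HasRingHomProperty.appTop (P := @LocallyOfFinitePresentation) _ hw1'
  have hF : (w ≫ g ∣_ V.1).appTop.hom.FaithfullyFlat := by
    refine RingHom.FaithfullyFlat.iff_flat_and_comap_surjective.2
      ⟨HasRingHomProperty.appTop (P := @Flat) _ hw1, ?_⟩
    have : Surjective (Spec.map (w ≫ g ∣_ V.1).appTop) :=
      (MorphismProperty.arrow_mk_iso_iff @Surjective (arrowIsoSpecΓOfIsAffine _)).1 hw2
    exact (Spec.map (w ≫ g ∣_ V.1).appTop).surjective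
  have hft : (h.resLE U.1 V.1 e).appTop.hom.FiniteType :=
    HasRingHomProperty.appTop (P := @LocallyOfFiniteType) _ (IsZariskiLocalAtSource.resLE _ ‹_›)
  have h3 : RingHom.FormallyUnramified (h.resLE U.1 V.1 e).appTop.hom := by
    revert hft hE hF hP2
    generalize (h.resLE U.1 V.1 e).appTop.hom = φ, (w ≫ g ∣_ V.1).appTop.hom = ψ
    intro hP2 hE hF hft
    algebraize [φ, ψ, ψ.comp φ]
    haveI : Algebra.FiniteType Γ((V.1 : Scheme.{u}), ⊤) Γ(W, ⊤) := inferInstance
    rw [← RingHom.algebraMap_toAlgebra φ, RingHom.formallyUnramified_algebraMap]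
    exact formallyUnramified_of_fppf Γ((U.1 : Scheme.{u}), ⊤) Γ((V.1 : Scheme.{u}), ⊤) Γ(W, ⊤)
  have hri : RingHom.RespectsIso RingHom.FormallyUnramified :=
    (HasRingHomProperty.isLocal_ringHomProperty @FormallyUnramified).respectsIso
  exact (hri.arrow_mk_iso_iff (arrowResLEAppIso h U.1 V.1 e)).1 h3

/-- Descent of a property along a morphism which is flat at a point. -/
theorem exists_nhd_of_flat_at (P : MorphismProperty Scheme.{u}) [IsZariskiLocalAtSource P]
    (hP : ∀ {A B C : Scheme.{u}} (a : A ⟶ B) (b : B ⟶ C), Flat a → LocallyOfFinitePresentation a →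
      Surjective a → LocallyOfFiniteType b → P (a ≫ b) → P b)
    {X Y S : Scheme.{u}} (f : Y ⟶ S) (h : X ⟶ S) [LocallyOfFiniteType f] [LocallyOfFinitePresentation h]
    (g : X ⟶ Y) (w : g ≫ f = h) (x : X) (hg : (g.stalkMap x).hom.Flat)
    (hh : ∃ U : X.Opens, x ∈ U ∧ P (U.ι ≫ h)) : ∃ V : Y.Opens, g.base x ∈ V ∧ P (V.ι ≫ f) := by
  subst w
  haveI : LocallyOfFinitePresentation g := FlatLocus.locallyOfFinitePresentation_of_comp g f
  obtain ⟨U, hxU, hU⟩ := hh
  let O : X.Opens := ⟨{x : X | (g.stalkMap x).hom.Flat}, FlatLocus.isOpen_flat_stalkMap g⟩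
  let U' : X.Opens := U ⊓ O
  let g' := U'.ι ≫ g
  haveI : Flat g' := Flat.of_stalkMap _ fun z =>
    FlatLocus.flat_comp_stalkMap U'.ι g z z.2.2 (Flat.stalkMap U'.ι z)
  let V : Y.Opens := ⟨Set.range g', g'.isOpenMap.isOpen_range⟩
  let a : U'.toScheme ⟶ V.toScheme := IsOpenImmersion.lift V.ι g' (by rw [Scheme.Opens.range_ι]; rfl)
  have ha : a ≫ V.ι = g' := IsOpenImmersion.lift_fac _ _ _
  haveI : LocallyOfFinitePresentation a := by
    haveI : LocallyOfFinitePresentation (a ≫ V.ι) := by rw [ha]; infer_instance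
    exact FlatLocus.locallyOfFinitePresentation_of_comp a V.ι
  haveI : Flat a := MorphismProperty.of_isPullback (IsOpenImmersion.isPullback_lift_id g' V.ι _).flip ‹Flat g'›
  haveI : Surjective a := ⟨fun ⟨y, z, hz⟩ => ⟨z, V.ι.isOpenEmbedding.injective (by
    rw [← Scheme.Hom.comp_apply, ha]; exact hz)⟩⟩
  refine ⟨V, ⟨⟨x, hxU, hg⟩, rfl⟩, hP a (V.ι ≫ f) ‹_› ‹_› ‹_› inferInstance ?_⟩
  rw [← Category.assoc, ha, Category.assoc, ← X.homOfLE_ι (inf_le_left : U' ≤ U), Category.assoc]
  exact IsZariskiLocalAtSource.comp hU _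

end Groth.Agent.FppfSrc
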