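import Groth.Agent.FppfSrc.Ring
import Groth.Agent.CotTLib.Field
import Groth.Agent.S9406
import Groth.Agent.FlatLocus.DescentPoint
/-!
Smoothness descends along fppf ring maps on the source.
-/

set_option autoImplicit false
set_option backward.isDefEq.respectTransparency false

universe u

open TensorProduct

namespace Groth.Agent.FppfSrc

/-- Over an algebraically closed field formal smoothness descends along faithfully flat maps. -/
theorem formallySmooth_of_faithfullyFlat_algClosed (k B C : Type u) [Field k] [IsAlgClosed k]
    [CommRing B] [CommRing C] [Algebra k B] [Algebra k C] [Algebra B C] [Module.FaithfullyFlat B C]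
    [Algebra.FiniteType k B] [Algebra.FiniteType k C] [Algebra.FormallySmooth k C] :
    Algebra.FormallySmooth k B := by
  haveI : IsNoetherianRing C := Algebra.FiniteType.isNoetherianRing k C
  haveI : IsRegularRing C := RegComplLib.isRegularRing_of_isMaximal C fun M _ =>
    CotTLib.regular_of_formallySmooth (k := k) M
  haveI : IsRegularRing B := Groth.Agent.S9406.result B C
  exact CotTLib.formallySmooth_of_regular (k := k) fun m _ => inferInstance

/-- Over a field smoothness descends along faithfully flat maps. -/
theorem formallySmooth_of_faithfullyFlat_field (k B C : Type u) [Field k] [CommRing B] [CommRing C]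
    [Algebra k B] [Algebra B C] [Algebra k C] [IsScalarTower k B C] [Module.FaithfullyFlat B C]
    [Algebra.FiniteType k B] [Algebra.FiniteType k C] [Algebra.FormallySmooth k C] :
    Algebra.FormallySmooth k B := by
  let K := AlgebraicClosure k
  let B' := K ⊗[k] B
  letI : Algebra B B' := Algebra.TensorProduct.rightAlgebra
  haveI : IsScalarTower k B B' := .of_algebraMap_eq fun r => by
    show algebraMap k (K ⊗[k] B) r = (1 : K) ⊗ₜ[k] algebraMap k B r
    rw [Algebra.TensorProduct.algebraMap_apply, Algebra.algebraMap_eq_smul_one,
      Algebra.algebraMap_eq_smul_one, smul_tmul]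
  let C' := B' ⊗[B] C
  let e : C' ≃ₐ[K] K ⊗[k] C := Algebra.IsPushout.cancelBaseChangeAlg k K B B' C
  haveI : Algebra.FormallySmooth K C' := Algebra.FormallySmooth.of_equiv e.symm
  haveI : Algebra.FiniteType K C' := Algebra.FiniteType.equiv inferInstance e.symm
  haveI : Algebra.FormallySmooth K B' := formallySmooth_of_faithfullyFlat_algClosed K B' C'
  haveI : Algebra.FinitePresentation k B := Algebra.FinitePresentation.of_finiteType.1 inferInstance
  haveI : Algebra.FinitePresentation K B' := inferInstance
  rw [← Algebra.smoothLocus_eq_univ_iff]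
  refine Set.eq_univ_of_forall fun q => ?_
  haveI : Module.FaithfullyFlat B B' := Module.FaithfullyFlat.of_linearEquiv B (B ⊗[k] K)
    ({ __ := Algebra.TensorProduct.comm k K B
       map_smul' := fun b x => by
         simp [B', Algebra.smul_def, RingHom.algebraMap_toAlgebra,
           Algebra.TensorProduct.algebraMap_apply] } : B' ≃ₗ[B] B ⊗[k] K)
  obtain ⟨q2, rfl⟩ := PrimeSpectrum.comap_surjective_of_faithfullyFlat (A := B) (B := B') q
  exact FlatLocus.isSmoothAt_of_baseChange K q2 (by
    rw [Algebra.smoothLocus_eq_univ_iff.mpr inferInstance]; trivial)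

/-- Smoothness descends along faithfully flat finitely presented maps on the source. -/
theorem smooth_of_fppf (A B C : Type u) [CommRing A] [CommRing B] [CommRing C] [Algebra A B]
    [Algebra B C] [Algebra A C] [IsScalarTower A B C] [Algebra.FinitePresentation B C]
    [Module.FaithfullyFlat B C] [Algebra.Smooth A C] : Algebra.Smooth A B := by
  haveI := finitePresentation_of_fppf A B C
  haveI : Module.Flat A B := Groth.Agent.EtDescent.flat_of_faithfullyFlat A B C
  refine Algebra.Smooth.of_formallySmooth_fiber fun p _ => ?_
  let k := p.ResidueField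
  let B' := p.Fiber B
  letI : Algebra B B' := Algebra.TensorProduct.rightAlgebra
  haveI : IsScalarTower A B B' := .of_algebraMap_eq fun r => by
    show algebraMap A (k ⊗[A] B) r = (1 : k) ⊗ₜ[A] algebraMap A B r
    rw [Algebra.TensorProduct.algebraMap_apply, Algebra.algebraMap_eq_smul_one,
      Algebra.algebraMap_eq_smul_one, smul_tmul]
  let C' := B' ⊗[B] C
  let e : C' ≃ₐ[k] k ⊗[A] C := Algebra.IsPushout.cancelBaseChangeAlg A k B B' C
  haveI : Algebra.FormallySmooth k C' := Algebra.FormallySmooth.of_equiv e.symm
  haveI : Algebra.FiniteType k C' := Algebra.FiniteType.equiv inferInstance e.symm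
  exact formallySmooth_of_faithfullyFlat_field k B' C'

end Groth.Agent.FppfSrc
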